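import Mathlib

/-!
Complete discrete valuation rings with a coefficient field.
-/

set_option autoImplicit false
set_option linter.all false

universe u v

open IsLocalRing

namespace Groth.Agent.DvrPS

variable {K : Type u} {A : Type v} [Field K] [CommRing A] [IsDomain A] [IsDiscreteValuationRing A]
  [Algebra K A] [IsAdicComplete (maximalIdeal A) A]

theorem exists_algHom (hK : Function.Surjective ((residue A).comp (algebraMap K A)))
    (x : A) (hx : maximalIdeal A = Ideal.span {x}) :
    ∃ φ : PowerSeries K →ₐ[K] A, φ PowerSeries.X = x ∧ Function.Bijective φ ∧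
      ∀ (f : PowerSeries K) (n : ℕ),
        φ f - (Finset.range n).sum (fun i => algebraMap K A (PowerSeries.coeff i f) * x ^ i) ∈
          maximalIdeal A ^ n := by
  classical
  let m := maximalIdeal A
  have hxm : x ∈ m := by show x ∈ maximalIdeal A; rw [hx]; exact Ideal.mem_span_singleton_self x
  have hx0 : x ≠ 0 := fun h => IsDiscreteValuationRing.not_a_field A (by rw [hx, h, Ideal.span_singleton_eq_bot.2 rfl])
  let ev : ∀ N, Polynomial K →ₐ[K] A ⧸ m ^ N := fun N =>
    (Ideal.Quotient.mkₐ K (m ^ N)).comp (Polynomial.aeval x)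
  have hev : ∀ N (P : Polynomial K), (∀ i < N, P.coeff i = 0) → ev N P = 0 := by
    intro N P hP
    obtain ⟨Q, rfl⟩ := Polynomial.X_pow_dvd_iff.2 hP
    rw [map_mul, map_pow]
    have : ev N Polynomial.X ^ N = 0 := by
      simp only [ev, AlgHom.comp_apply, Polynomial.aeval_X, Ideal.Quotient.mkₐ_eq_mk, ← map_pow,
        Ideal.Quotient.eq_zero_iff_mem]
      exact Ideal.pow_mem_pow hxm N
    rw [this, zero_mul]
  let f : ∀ N, PowerSeries K →ₐ[K] A ⧸ m ^ N := fun N =>
    AlgHom.ofLinearMap
      { toFun := fun p => ev N (PowerSeries.trunc N p)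
        map_add' := fun a b => by rw [map_add, map_add]
        map_smul' := fun c a => by rw [map_smul, map_smul, RingHom.id_apply] }
      (by
        cases N with
        | zero =>
          haveI : Subsingleton (A ⧸ m ^ 0) := by rw [pow_zero, Ideal.one_eq_top]; exact Ideal.Quotient.subsingleton_iff.2 rfl
          exact Subsingleton.elim _ _
        | succ N =>
          show ev (N + 1) (PowerSeries.trunc (N + 1) 1) = 1
          rw [PowerSeries.trunc_one, map_one])
      (fun a b => by
        show ev N (PowerSeries.trunc N (a * b)) = ev N (PowerSeries.trunc N a) * ev N (PowerSeries.trunc N b)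
        rw [← map_mul, ← sub_eq_zero, ← map_sub]
        refine hev N _ fun i hi => ?_
        rw [Polynomial.coeff_sub, PowerSeries.coeff_trunc, if_pos hi, Polynomial.coeff_mul,
          PowerSeries.coeff_mul, ← Finset.sum_sub_distrib, Finset.sum_eq_zero]
        intro jl hjl
        have hjl := Finset.HasAntidiagonal.mem_antidiagonal.1 hjl
        rw [PowerSeries.coeff_trunc, PowerSeries.coeff_trunc, if_pos (by omega), if_pos (by omega), sub_self])
  have hf : ∀ {a b : ℕ} (hle : a ≤ b),
      (Ideal.Quotient.factorₐ K (Ideal.pow_le_pow_right hle : m ^ b ≤ m ^ a)).comp (f b) = f a := by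
    intro a b hle
    refine AlgHom.ext fun p => ?_
    change Ideal.Quotient.mk (m ^ a) (Polynomial.aeval x (PowerSeries.trunc b p)) = ev a (PowerSeries.trunc a p)
    change ev a (PowerSeries.trunc b p) = _
    rw [← sub_eq_zero, ← map_sub]
    refine hev a _ fun i hi => ?_
    rw [Polynomial.coeff_sub, PowerSeries.coeff_trunc, PowerSeries.coeff_trunc, if_pos hi, if_pos (hi.trans_le hle), sub_self]
  let φ := IsAdicComplete.liftAlgHom m f hf
  have hφ : ∀ (p : PowerSeries K) n,
      φ p - (Finset.range n).sum (fun i => algebraMap K A (PowerSeries.coeff i p) * x ^ i) ∈ m ^ n := by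
    intro p n
    rw [← Ideal.Quotient.eq, IsAdicComplete.mk_liftAlgHom]
    change Ideal.Quotient.mk (m ^ n) (Polynomial.aeval x (PowerSeries.trunc n p)) = _
    congr 1
    rw [PowerSeries.trunc_apply, map_sum, Nat.Ico_zero_eq_range]
    exact Finset.sum_congr rfl fun i _ => by rw [Polynomial.aeval_monomial]
  have heq : ∀ (a : A) (p : PowerSeries K), (∀ n, a - (Finset.range n).sum
      (fun i => algebraMap K A (PowerSeries.coeff i p) * x ^ i) ∈ m ^ n) → φ p = a := by
    intro a p h
    refine sub_eq_zero.1 (IsHausdorff.haus' (I := m) _ fun n => ?_)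
    rw [SModEq.zero, smul_eq_mul, Ideal.mul_top]
    simpa using sub_mem (hφ p n) (h n)
  refine ⟨φ, ?_, ⟨?_, ?_⟩, hφ⟩
  · refine heq x _ fun n => ?_
    rcases Nat.lt_or_ge 1 n with h | h
    · rw [Finset.sum_eq_single 1]
      · simp
      · intro i _ hi; simp [PowerSeries.coeff_X, hi]
      · simp [h]
    · interval_cases n <;> simp [hxm, m, pow_one] <;> exact hxm
  · rw [injective_iff_map_eq_zero]
    intro p hp
    by_contra hne
    obtain ⟨q, hq⟩ := (PowerSeries.X_pow_order_dvd (φ := p))
    set n := p.order.toNat
    have hq0 : PowerSeries.constantCoeff q ≠ 0 := by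
      have h1 := PowerSeries.coeff_order hne
      rw [← PowerSeries.coeff_zero_eq_constantCoeff_apply]
      have h2 : PowerSeries.coeff n p = PowerSeries.coeff 0 q := by
        rw [hq]
        simpa using PowerSeries.coeff_X_pow_mul q n 0
      rw [← h2]
      exact h1
    have hu : IsUnit q := PowerSeries.isUnit_iff_constantCoeff.2 (isUnit_iff_ne_zero.2 hq0)
    have hX : φ PowerSeries.X = x := heq x _ fun n => by
      rcases Nat.lt_or_ge 1 n with h | h
      · rw [Finset.sum_eq_single 1]
        · simp
        · intro i _ hi; simp [PowerSeries.coeff_X, hi]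
        · simp [h]
      · interval_cases n <;> simp [hxm, m, pow_one] <;> exact hxm
    rw [hq, map_mul, map_pow, hX] at hp
    exact (mul_ne_zero (pow_ne_zero _ hx0) (hu.map φ).ne_zero) hp
  · intro a
    have step : ∀ b : A, ∃ c : K, ∃ b', b = algebraMap K A c + x * b' := fun b => by
      obtain ⟨c, hc⟩ := hK (residue A b)
      have hmem : b - algebraMap K A c ∈ m := Ideal.Quotient.eq.1 hc.symm
      rw [show m = Ideal.span {x} from hx] at hmem
      obtain ⟨b', hb'⟩ := Ideal.mem_span_singleton.1 hmem
      exact ⟨c, b', by rw [← hb', add_sub_cancel]⟩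
    choose c nxt hstep using step
    let r : ℕ → A := fun n => nxt^[n] a
    refine ⟨PowerSeries.mk fun i => c (r i), heq a _ fun n => ?_⟩
    have key : a - (Finset.range n).sum (fun i => algebraMap K A (c (r i)) * x ^ i) = x ^ n * r n := by
      induction n with
      | zero => simp [r]
      | succ n ih =>
        have hr : r (n + 1) = nxt (r n) := Function.iterate_succ_apply' nxt n a
        rw [Finset.sum_range_succ, ← sub_sub, ih, hr]
        linear_combination x ^ n * hstep (r n)
    simp only [PowerSeries.coeff_mk]
    rw [key]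
    exact Ideal.mul_mem_right _ _ (Ideal.pow_mem_pow hxm n)

end Groth.Agent.DvrPS
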